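import Groth.Agent.Ega43.Unibranch
import Groth.Agent.Flat2G.EtUnibranch
import Mathlib.FieldTheory.PurelyInseparable.Basic
import Mathlib.RingTheory.Localization.LocalizationLocalization

/-!
# Normalization is universally injective iff the local rings are geometrically unibranch
-/

set_option autoImplicit false
universe u

open CategoryTheory AlgebraicGeometry CAlg2

namespace K654.GeomUni

open Groth.Agent.Flat2G.EtUnibranch

theorem isFracRed_of_isFractionRing (O K : Type*) [CommRing O] [IsDomain O] [Field K]
    [Algebra O K] [IsFractionRing O K] : IsFracRed O K where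
  isField := Field.toIsField K
  ker_eq := by
    rw [nilradical_eq_zero]
    exact (RingHom.injective_iff_ker_eq_bot _).mp (IsFractionRing.injective O K)
  exists_mul_eq z := by
    obtain ⟨a, b, hb, rfl⟩ := IsFractionRing.div_surjective (A := O) z
    have hb' : algebraMap O K b ≠ 0 := by simpa using nonZeroDivisors.ne_zero hb
    exact ⟨a, b, hb', by field_simp⟩

section

variable {A : Type u} [CommRing A] [IsDomain A] (p : Ideal A) [p.IsPrime]
  (O : Type u) [CommRing O] [Algebra A O] [IsLocalization.AtPrime O p]
  (K : Type u) [Field K] [Algebra A K] [Algebra O K] [IsScalarTower A O K]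

/-- The inclusion of integral closures. -/
noncomputable def incl : integralClosure A K →+* integralClosure O K where
  toFun x := ⟨x.1, IsIntegral.tower_top x.2⟩
  map_one' := rfl
  map_mul' _ _ := rfl
  map_zero' := rfl
  map_add' _ _ := rfl

omit [IsDomain A] in
theorem incl_algebraMap (a : A) : incl O K (algebraMap A (integralClosure A K) a) =
    algebraMap O (integralClosure O K) (algebraMap A O a) :=
  Subtype.ext (IsScalarTower.algebraMap_apply A O K a)

include p in
/-- Ring homomorphisms from the integral closure over the local ring are determined by their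
restriction to the integral closure over `A`. -/
theorem ringHom_ext {Ω : Type*} [Field Ω] (ψ₁ ψ₂ : integralClosure O K →+* Ω)
    (h : ψ₁.comp (incl (A := A) O K) = ψ₂.comp (incl (A := A) O K)) : ψ₁ = ψ₂ := by
  ext x
  obtain ⟨m, hm⟩ := IsIntegral.exists_multiple_integral_of_isLocalization p.primeCompl
    (x.1 : K) x.2
  have hu : IsUnit (algebraMap O (integralClosure O K) (algebraMap A O m)) :=
    (IsLocalization.map_units O m).map _
  have h1 : algebraMap O (integralClosure O K) (algebraMap A O m) * x =
      incl O K ⟨_, hm⟩ := by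
    apply Subtype.ext
    change algebraMap O K (algebraMap A O m) * x.1 = (m : A) • x.1
    rw [← IsScalarTower.algebraMap_apply, Algebra.smul_def]
  have h2 : ψ₁ (algebraMap O (integralClosure O K) (algebraMap A O m)) =
      ψ₂ (algebraMap O (integralClosure O K) (algebraMap A O m)) := by
    have h3 : algebraMap O (integralClosure O K) (algebraMap A O m) =
        incl O K (algebraMap A (integralClosure A K) m) := (incl_algebraMap O K _).symm
    rw [h3]
    exact RingHom.congr_fun h _
  have h4 : ψ₁ (algebraMap O (integralClosure O K) (algebraMap A O m)) * ψ₁ x =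
      ψ₁ (algebraMap O (integralClosure O K) (algebraMap A O m)) * ψ₂ x := by
    rw [← map_mul, h1]
    conv_rhs => rw [h2, ← map_mul, h1]
    exact RingHom.congr_fun h _
  exact mul_left_cancel₀ (hu.map ψ₁).ne_zero h4

variable [IsDomain O] [IsLocalRing O] [IsFractionRing O K]

include p in
/-- If homomorphisms from the integral closure of `A` to fields are determined by their
restriction to `A`, the local rings of `A` are geometrically unibranch. -/
theorem isGeomUnibranch_of_injective
    (H : ∀ (Ω : Type u) [Field Ω] (φ₁ φ₂ : integralClosure A K →+* Ω),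
      (∀ a : A, φ₁ (algebraMap A _ a) = φ₂ (algebraMap A _ a)) → φ₁ = φ₂) :
    CAlg2.IsGeomUnibranch O := by
  let κ := IsLocalRing.ResidueField O
  let Ω := AlgebraicClosure κ
  have key : ∀ ψ₁ ψ₂ : integralClosure O K →+* Ω,
      (∀ a : O, ψ₁ (algebraMap O _ a) = ψ₂ (algebraMap O _ a)) → ψ₁ = ψ₂ := by
    intro ψ₁ ψ₂ h
    refine ringHom_ext p O K ψ₁ ψ₂ (H Ω _ _ fun a => ?_)
    have h1 : (incl O K) (algebraMap A (integralClosure A K) a) =
        algebraMap O (integralClosure O K) (algebraMap A O a) := incl_algebraMap O K a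
    change ψ₁ (incl O K _) = ψ₂ (incl O K _)
    rw [h1]
    exact h _
  -- every maximal ideal gives a homomorphism to `Ω`
  have hcomap : ∀ M : Ideal (integralClosure O K), M.IsMaximal →
      M.comap (algebraMap O (integralClosure O K)) = IsLocalRing.maximalIdeal O := fun M hM =>
    IsLocalRing.eq_maximalIdeal (Ideal.isMaximal_comap_of_isIntegral_of_isMaximal M)
  have alg : ∀ (M : Ideal (integralClosure O K)) (hM : M.IsMaximal),
      ∃ _ : Algebra κ (integralClosure O K ⧸ M),
        (∀ a : O, algebraMap κ (integralClosure O K ⧸ M) (IsLocalRing.residue O a) =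
          Ideal.Quotient.mk M (algebraMap O _ a)) := by
    intro M hM
    exact ⟨(Ideal.quotientMap M (algebraMap O (integralClosure O K)) (hcomap M hM).ge).toAlgebra,
      fun a => rfl⟩
  have hK := isFracRed_of_isFractionRing O K
  rw [hK.isGeomUnibranch_iff]
  have pure : ∀ (M : Ideal (integralClosure O K)) (hM : M.IsMaximal),
      ∃ ψ : integralClosure O K →+* Ω, RingHom.ker ψ = M ∧
        ∀ a : O, ψ (algebraMap O _ a) = algebraMap κ Ω (IsLocalRing.residue O a) := by
    intro M hM
    obtain ⟨_, halg⟩ := alg M hM
    let _ : Field (integralClosure O K ⧸ M) := Ideal.Quotient.field M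
    have hint : Algebra.IsIntegral κ (integralClosure O K ⧸ M) := by
      refine ⟨fun x => ?_⟩
      obtain ⟨x, rfl⟩ := Ideal.Quotient.mk_surjective x
      obtain ⟨f, hf, hfx⟩ := Algebra.IsIntegral.isIntegral (R := O) x
      refine ⟨f.map (IsLocalRing.residue O), hf.map _, ?_⟩
      rw [Polynomial.eval₂_map]
      have h1 : (algebraMap κ (integralClosure O K ⧸ M)).comp (IsLocalRing.residue O) =
          (Ideal.Quotient.mk M).comp (algebraMap O (integralClosure O K)) :=
        RingHom.ext halg
      rw [h1, ← Polynomial.hom_eval₂, hfx, map_zero]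
    have hal : Algebra.IsAlgebraic κ (integralClosure O K ⧸ M) := Algebra.IsIntegral.isAlgebraic
    let σ : (integralClosure O K ⧸ M) →ₐ[κ] Ω := IsAlgClosed.lift
    refine ⟨σ.toRingHom.comp (Ideal.Quotient.mk M), ?_, fun a => ?_⟩
    · rw [RingHom.ker_comp_of_injective _ σ.toRingHom.injective, Ideal.mk_ker]
    · change σ (Ideal.Quotient.mk M (algebraMap O _ a)) = _
      rw [← halg, AlgHom.commutes]
  constructor
  · refine IsLocalRing.of_unique_max_ideal ?_
    obtain ⟨M, hM⟩ := Ideal.exists_maximal (integralClosure O K)
    refine ⟨M, hM, fun N hN => ?_⟩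
    obtain ⟨ψ₁, h1, h1'⟩ := pure M hM
    obtain ⟨ψ₂, h2, h2'⟩ := pure N hN
    rw [← h1, ← h2, key ψ₂ ψ₁ fun a => by rw [h1', h2']]
  · intro M hM x
    obtain ⟨_, halg⟩ := alg M hM
    let _ : Field (integralClosure O K ⧸ M) := Ideal.Quotient.field M
    have hint : Algebra.IsIntegral κ (integralClosure O K ⧸ M) := by
      refine ⟨fun x => ?_⟩
      obtain ⟨x, rfl⟩ := Ideal.Quotient.mk_surjective x
      obtain ⟨f, hf, hfx⟩ := Algebra.IsIntegral.isIntegral (R := O) x
      refine ⟨f.map (IsLocalRing.residue O), hf.map _, ?_⟩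
      rw [Polynomial.eval₂_map]
      have h1 : (algebraMap κ (integralClosure O K ⧸ M)).comp (IsLocalRing.residue O) =
          (Ideal.Quotient.mk M).comp (algebraMap O (integralClosure O K)) :=
        RingHom.ext halg
      rw [h1, ← Polynomial.hom_eval₂, hfx, map_zero]
    have hal : Algebra.IsAlgebraic κ (integralClosure O K ⧸ M) := Algebra.IsIntegral.isAlgebraic
    have hpi : IsPurelyInseparable κ (integralClosure O K ⧸ M) := by
      -- any two embeddings into an algebraic closure agree
      refine (isPurelyInseparable_iff_subsingleton_emb κ (integralClosure O K ⧸ M)).mpr ?_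
      let σ₀ : AlgebraicClosure (integralClosure O K ⧸ M) →ₐ[κ] Ω := IsAlgClosed.lift
      refine ⟨fun σ τ => AlgHom.ext fun y => ?_⟩
      obtain ⟨y, rfl⟩ := Ideal.Quotient.mk_surjective y
      have h3 := key ((σ₀.comp σ).toRingHom.comp (Ideal.Quotient.mk M))
        ((σ₀.comp τ).toRingHom.comp (Ideal.Quotient.mk M)) fun a => by
          change (σ₀.comp σ) (Ideal.Quotient.mk M (algebraMap O _ a)) =
            (σ₀.comp τ) (Ideal.Quotient.mk M (algebraMap O _ a))
          rw [← halg, AlgHom.commutes, AlgHom.commutes]
      have h4 : σ₀ (σ (Ideal.Quotient.mk M y)) = σ₀ (τ (Ideal.Quotient.mk M y)) :=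
        RingHom.congr_fun h3 y
      exact σ₀.toRingHom.injective h4
    obtain ⟨n, y, hy⟩ := (isPurelyInseparable_iff_pow_mem κ (ringExpChar κ)).mp hpi
      (Ideal.Quotient.mk M x)
    obtain ⟨a, rfl⟩ := IsLocalRing.residue_surjective y
    refine ⟨n, a, ?_⟩
    rw [← Ideal.Quotient.eq_zero_iff_mem, map_sub, map_pow, sub_eq_zero, ← hy, halg]

end

end K654.GeomUni
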