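import Groth.Agent.CAlg2.K654.GeomUni

/-!
# Normalization is universally injective iff the local rings are geometrically unibranch
-/

set_option autoImplicit false
universe u

open CategoryTheory AlgebraicGeometry CAlg2

namespace K654.GeomUni

theorem main {A : Type u} [CommRing A] [IsDomain A] :
    (UniversallyInjective (Spec.map (CommRingCat.ofHom (algebraMap A (integralClosure A (FractionRing A))))) ↔
      ∀ (p : Ideal A) [p.IsPrime], CAlg2.IsGeomUnibranch (Localization.AtPrime p)) ∧
    ((∀ (p : Ideal A) [p.IsPrime], CAlg2.IsGeomUnibranch (Localization.AtPrime p)) →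
      IsHomeomorph (PrimeSpectrum.comap (algebraMap A (integralClosure A (FractionRing A))))) := by
  have back : (∀ (p : Ideal A) [p.IsPrime], CAlg2.IsGeomUnibranch (Localization.AtPrime p)) →
      UniversallyInjective (Spec.map (CommRingCat.ofHom
        (algebraMap A (integralClosure A (FractionRing A))))) := by
    intro h
    have hred : IsDomain (red A) :=
      (K654.GeomUni.isFracRed_of_isFractionRing A (FractionRing A)).isDomain_red
    have hall : Groth.Agent.Ega43.Unibranch.AllGeomUnibranch A := fun p =>
      ⟨Localization.AtPrime p.asIdeal, inferInstance, inferInstance, inferInstance, inferInstance,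
        h p.asIdeal⟩
    have h1 := Groth.Agent.Ega43.Unibranch.universallyInjective_integralClosure hall
    obtain ⟨e⟩ :=
      (K654.GeomUni.isFracRed_of_isFractionRing A (FractionRing A)).nonempty_algEquiv
    let e' := AlgEquiv.mapIntegralClosure e
    have h2 : CommRingCat.ofHom (algebraMap A (integralClosure A (FractionRing A))) =
        CommRingCat.ofHom (algebraMap A (integralClosure A (FractionRing (red A)))) ≫
          CommRingCat.ofHom e'.toRingEquiv.toRingHom := by
      refine CommRingCat.hom_ext (RingHom.ext fun a => ?_)
      exact (e'.commutes a).symm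
    have h3 : CategoryTheory.IsIso (CommRingCat.ofHom e'.toRingEquiv.toRingHom) :=
      (CategoryTheory.ConcreteCategory.isIso_iff_bijective _).mpr e'.bijective
    rw [h2, Spec.map_comp]
    exact MorphismProperty.comp_mem @UniversallyInjective _ _ inferInstance h1
  refine ⟨⟨fun h p _ => ?_, back⟩, fun h => ?_⟩
  · let _ : Algebra (Localization.AtPrime p) (FractionRing A) :=
      IsLocalization.localizationAlgebraOfSubmonoidLe (Localization.AtPrime p) (FractionRing A)
        p.primeCompl (nonZeroDivisors A) p.primeCompl_le_nonZeroDivisors
    have : IsScalarTower A (Localization.AtPrime p) (FractionRing A) :=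
      IsLocalization.localization_isScalarTower_of_submonoid_le (Localization.AtPrime p)
        (FractionRing A) p.primeCompl (nonZeroDivisors A) p.primeCompl_le_nonZeroDivisors
    have : IsFractionRing (Localization.AtPrime p) (FractionRing A) :=
      IsFractionRing.isFractionRing_of_isLocalization p.primeCompl (Localization.AtPrime p)
        (FractionRing A) p.primeCompl_le_nonZeroDivisors
    refine K654.GeomUni.isGeomUnibranch_of_injective p (Localization.AtPrime p) (FractionRing A)
      fun Ω _ φ₁ φ₂ h12 => ?_
    have h1 : ∀ (K : Type u) [Field K], Function.Injective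
        (fun g : Spec (.of K) ⟶ _ ↦ g ≫ Spec.map (CommRingCat.ofHom
          (algebraMap A (integralClosure A (FractionRing A))))) :=
      ((tfae_universallyInjective _).out 0 1).mp h
    have h2 : Spec.map (CommRingCat.ofHom φ₁) = Spec.map (CommRingCat.ofHom φ₂) := by
      apply h1 Ω
      change Spec.map _ ≫ Spec.map _ = Spec.map _ ≫ Spec.map _
      rw [← Spec.map_comp, ← Spec.map_comp]
      congr 1
      exact CommRingCat.hom_ext (RingHom.ext h12)
    exact congrArg CommRingCat.Hom.hom (Spec.map_injective h2)
  · have h1 := back h
    have h2 : (algebraMap A (integralClosure A (FractionRing A))).IsIntegral :=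
      algebraMap_isIntegral_iff.mpr inferInstance
    rw [isHomeomorph_iff_continuous_isClosedMap_bijective]
    refine ⟨PrimeSpectrum.continuous_comap _, PrimeSpectrum.isClosedMap_comap_of_isIntegral _ h2,
      ?_, ?_⟩
    · exact (Spec.map (CommRingCat.ofHom
        (algebraMap A (integralClosure A (FractionRing A))))).injective
    · intro p
      obtain ⟨Q, hQ, hQp⟩ := Ideal.exists_ideal_over_prime_of_isIntegral
        (S := integralClosure A (FractionRing A)) p.asIdeal ⊥ (by
          have : Ideal.comap (algebraMap A (integralClosure A (FractionRing A))) ⊥ = ⊥ := by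
            rw [← RingHom.ker_eq_comap_bot]
            exact (RingHom.injective_iff_ker_eq_bot _).mp
              (FaithfulSMul.algebraMap_injective A (integralClosure A (FractionRing A)))
          rw [this]
          exact bot_le)
      exact ⟨⟨Q, hQp.1⟩, PrimeSpectrum.ext hQp.2⟩

end K654.GeomUni
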